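import Groth.Agent.GLinQuot.Epi
import Mathlib

/-! Invariant morphisms out of an affine scheme descend to the invariant ring, given enough invariants. -/

set_option autoImplicit false
universe u

open CategoryTheory AlgebraicGeometry Limits

noncomputable section

namespace Groth.Agent.GLinQuot

theorem awaySq {R S : Type u} [CommRing R] [CommRing S] (f : R →+* S) (r : R) :
    CommRingCat.ofHom f ≫ CommRingCat.ofHom (algebraMap S (Localization.Away (f r))) =
      CommRingCat.ofHom (algebraMap R (Localization.Away r)) ≫ CommRingCat.ofHom (Localization.awayMap f r) := by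
  rw [← CommRingCat.ofHom_comp, ← CommRingCat.ofHom_comp]
  congr 1
  exact (IsLocalization.map_comp (M := Submonoid.powers r) (T := Submonoid.powers (f r)) _).symm

variable {C B T : Type u} [CommRing C] [CommRing B] [CommRing T] (ι : C →+* B) (ρ j : B →+* T)
  (hinj : Function.Injective ι) (hsurj : Function.Surjective (PrimeSpectrum.comap ι))
  (hι : ∀ c, ρ (ι c) = j (ι c)) (heq : ∀ x, ρ x = j x → x ∈ ι.range)
  {Z : Scheme.{u}} (ψ : Spec (CommRingCat.of B) ⟶ Z)
  (hψ : Spec.map (CommRingCat.ofHom ρ) ≫ ψ = Spec.map (CommRingCat.ofHom j) ≫ ψ)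

include hinj hι heq hψ in
theorem exists_local {c : C} {U : Z.Opens} (hU : IsAffineOpen U) (hsub : ∀ Q : PrimeSpectrum B, ι c ∉ Q.asIdeal → ψ Q ∈ U) :
    ∃ χ : Spec (CommRingCat.of (Localization.Away c)) ⟶ Z,
      Spec.map (CommRingCat.ofHom (Localization.awayMap ι c)) ≫ χ =
        Spec.map (CommRingCat.ofHom (algebraMap B (Localization.Away (ι c)))) ≫ ψ := by
  let Bc := Localization.Away (ι c)
  let Tc := Localization.Away (ρ (ι c))
  let ρc : Bc →+* Tc := Localization.awayMap ρ (ι c)
  let jc : Bc →+* Tc := IsLocalization.map Tc j (M := Submonoid.powers (ι c)) (T := Submonoid.powers (ρ (ι c)))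
    (Submonoid.powers_le.mpr ⟨1, by simp [hι]⟩)
  let jB := CommRingCat.ofHom (algebraMap B Bc)
  have hrange : Set.range (Spec.map jB ≫ ψ) ⊆ Set.range hU.fromSpec := by
    rintro _ ⟨q, rfl⟩
    rw [hU.range_fromSpec, Scheme.Hom.comp_apply]
    exact hsub _ fun hq => q.2.ne_top (Ideal.eq_top_of_isUnit_mem _ hq (IsLocalization.Away.algebraMap_isUnit (ι c)))
  let g := IsOpenImmersion.lift hU.fromSpec _ hrange
  have hg : g ≫ hU.fromSpec = Spec.map jB ≫ ψ := IsOpenImmersion.lift_fac _ _ _
  have hinv : Spec.map (CommRingCat.ofHom ρc) ≫ g = Spec.map (CommRingCat.ofHom jc) ≫ g := by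
    rw [← cancel_mono hU.fromSpec, Category.assoc, Category.assoc, hg, ← Spec.map_comp_assoc, ← Spec.map_comp_assoc]
    have e1 : jB ≫ CommRingCat.ofHom ρc = CommRingCat.ofHom ρ ≫ CommRingCat.ofHom (algebraMap T Tc) := by
      rw [← CommRingCat.ofHom_comp, ← CommRingCat.ofHom_comp]
      congr 1
      exact IsLocalization.map_comp (M := Submonoid.powers (ι c)) (T := Submonoid.powers (ρ (ι c))) _
    have e2 : jB ≫ CommRingCat.ofHom jc = CommRingCat.ofHom j ≫ CommRingCat.ofHom (algebraMap T Tc) := by
      rw [← CommRingCat.ofHom_comp, ← CommRingCat.ofHom_comp]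
      congr 1
      exact IsLocalization.map_comp (M := Submonoid.powers (ι c)) (T := Submonoid.powers (ρ (ι c))) _
    rw [e1, e2, Spec.map_comp_assoc, Spec.map_comp_assoc, hψ]
  rw [← Spec.map_preimage g, ← Spec.map_comp, ← Spec.map_comp] at hinv
  have hinv' : ∀ u, ρc ((Spec.preimage g).hom u) = jc ((Spec.preimage g).hom u) := fun u =>
    congrArg (fun φ => φ.hom u) (Spec.map_injective hinv)
  let l : Localization.Away c →+* Bc := Localization.awayMap ι c
  have hl : Function.Injective l := IsLocalization.map_injective_of_injective (.powers c) _ _ hinj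
  have hmem : ∀ u, (Spec.preimage g).hom u ∈ l.range := by
    intro u
    obtain ⟨b, ⟨_, m, rfl⟩, hb⟩ := IsLocalization.exists_mk'_eq (Submonoid.powers (ι c)) ((Spec.preimage g).hom u)
    have h := hinv' u
    rw [← hb] at h
    simp only [ρc, jc, Localization.awayMap, IsLocalization.Away.map, IsLocalization.map_mk'] at h
    obtain ⟨⟨_, N, rfl⟩, hN⟩ := IsLocalization.eq.mp h
    simp only [map_pow, ← hι] at hN
    have hx : ρ ((ι c) ^ (N + m) * b) = j ((ι c) ^ (N + m) * b) := by
      rw [map_mul, map_mul, map_pow, map_pow, ← hι, pow_add, mul_assoc, mul_assoc]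
      exact hN
    obtain ⟨d, hd⟩ := heq _ hx
    refine ⟨IsLocalization.mk' (Localization.Away c) d (⟨c ^ (N + m + m), N + m + m, rfl⟩ : Submonoid.powers c), ?_⟩
    rw [← hb]
    simp only [l, Localization.awayMap, IsLocalization.Away.map, IsLocalization.map_mk', hd]
    rw [IsLocalization.eq]
    exact ⟨1, by simp only [OneMemClass.coe_one, one_mul]; simp only [map_pow, map_mul, pow_add]; ring⟩
  let h' : Γ(Z, U) →+* Localization.Away c :=
    (RingEquiv.ofBijective l.rangeRestrict ⟨fun a b h => hl (congrArg Subtype.val h), l.rangeRestrict_surjective⟩).symm.toRingHom.comp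
      ((Spec.preimage g).hom.codRestrict l.range hmem)
  have hh : CommRingCat.ofHom h' ≫ CommRingCat.ofHom l = Spec.preimage g := by
    ext u
    exact congrArg Subtype.val ((RingEquiv.ofBijective l.rangeRestrict
      ⟨fun a b h => hl (congrArg Subtype.val h), l.rangeRestrict_surjective⟩).apply_symm_apply ⟨_, hmem u⟩)
  refine ⟨Spec.map (CommRingCat.ofHom h') ≫ hU.fromSpec, ?_⟩
  rw [← Spec.map_comp_assoc, hh, Spec.map_preimage, hg]

include hinj hsurj hι heq hψ in
theorem existsUnique_desc
    (hcov : ∀ P : PrimeSpectrum C, ∃ (c : C) (U : Z.Opens), IsAffineOpen U ∧ c ∉ P.asIdeal ∧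
      ∀ Q : PrimeSpectrum B, ι c ∉ Q.asIdeal → ψ Q ∈ U) :
    ∃! χ : Spec (CommRingCat.of C) ⟶ Z, Spec.map (CommRingCat.ofHom ι) ≫ χ = ψ := by
  choose c U hU hmem hsub using hcov
  choose χ hχ using fun P => exists_local ι ρ j hinj hι heq ψ hψ (hU P) (hsub P)
  have hspan : Ideal.span (Set.range c) = ⊤ := by
    by_contra hne
    obtain ⟨m, hm, hle⟩ := Ideal.exists_le_maximal _ hne
    exact hmem ⟨m, hm.isPrime⟩ (hle (Ideal.subset_span ⟨⟨m, hm.isPrime⟩, rfl⟩))
  let 𝒰 := (Scheme.affineOpenCoverOfSpanRangeEqTop (R := CommRingCat.of C) c hspan).openCover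
  let jC : ∀ x, Spec (CommRingCat.of (Localization.Away (c x))) ⟶ Spec (CommRingCat.of C) := fun x =>
    Spec.map (CommRingCat.ofHom (algebraMap C (Localization.Away (c x))))
  have hov : ∀ x y, pullback.fst (jC x) (jC y) ≫ χ x = pullback.snd _ _ ≫ χ y := by
    intro x y
    rw [← cancel_epi (pullbackSpecIso C (Localization.Away (c x)) (Localization.Away (c y))).inv,
      pullbackSpecIso_inv_fst_assoc, pullbackSpecIso_inv_snd_assoc]
    let R' := TensorProduct C (Localization.Away (c x)) (Localization.Away (c y))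
    haveI : IsLocalization.Away (algebraMap C (Localization.Away (c x)) (c y)) R' := by
      rw [IsLocalization.Away, ← Algebra.algebraMapSubmonoid_powers]
      infer_instance
    haveI : IsLocalization.Away (c x * c y) R' := IsLocalization.Away.mul' (Localization.Away (c x)) R' (c x) (c y)
    let S' := Localization.Away (ι (c x * c y))
    haveI : IsLocalization ((Submonoid.powers (c x * c y)).map ι) S' := by
      rw [Submonoid.map_powers]; infer_instance
    let l : R' →+* S' := IsLocalization.map S' ι (M := Submonoid.powers (c x * c y)) (Submonoid.le_comap_map _)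
    have hlinj : Function.Injective l := IsLocalization.map_injective_of_injective (Submonoid.powers (c x * c y)) _ _ hinj
    refine specMap_cancel (CommRingCat.ofHom l) hlinj (localization_surjective ι _ R' S' hsurj) _ _ ?_
    have key : ∀ (z : PrimeSpectrum C) (k : Localization.Away (c z) →+* R') (_ : k.comp (algebraMap C _) = algebraMap C R'),
        IsUnit (algebraMap B S' (ι (c z))) →
        Spec.map (CommRingCat.ofHom l) ≫ Spec.map (CommRingCat.ofHom k) ≫ χ z =
          Spec.map (CommRingCat.ofHom (algebraMap B S')) ≫ ψ := by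
      intro z k hk hunit
      let m : Localization.Away (ι (c z)) →+* S' := IsLocalization.Away.lift (ι (c z)) hunit
      have e : CommRingCat.ofHom k ≫ CommRingCat.ofHom l =
          CommRingCat.ofHom (Localization.awayMap ι (c z)) ≫ CommRingCat.ofHom m := by
        rw [← CommRingCat.ofHom_comp, ← CommRingCat.ofHom_comp]
        congr 1
        refine IsLocalization.ringHom_ext (Submonoid.powers (c z)) (RingHom.ext fun a => ?_)
        simp only [RingHom.comp_apply, m, Localization.awayMap, IsLocalization.Away.map]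
        rw [show k (algebraMap C _ a) = algebraMap C R' a from RingHom.congr_fun hk a]
        simp only [l, IsLocalization.map_eq, IsLocalization.Away.lift_eq]
      have e' : CommRingCat.ofHom (algebraMap B (Localization.Away (ι (c z)))) ≫ CommRingCat.ofHom m =
          CommRingCat.ofHom (algebraMap B S') := by
        rw [← CommRingCat.ofHom_comp]
        congr 1
        exact IsLocalization.Away.lift_comp (ι (c z)) hunit
      rw [← Spec.map_comp_assoc, e, Spec.map_comp_assoc, hχ, ← Spec.map_comp_assoc, e']
    have hu : IsUnit (algebraMap B S' (ι (c x)) * algebraMap B S' (ι (c y))) := by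
      rw [← map_mul, ← map_mul]
      exact IsLocalization.Away.algebraMap_isUnit _
    refine (key x _ ?_ (isUnit_of_mul_isUnit_left hu)).trans (key y _ ?_ (isUnit_of_mul_isUnit_right hu)).symm
    · exact RingHom.ext fun a => rfl
    · exact RingHom.ext fun a => (Algebra.TensorProduct.includeRight : Localization.Away (c y) →ₐ[C] R').commutes a
  let ι' := CommRingCat.ofHom ι
  refine ⟨𝒰.glueMorphisms χ hov, ?_, fun χ' hχ' => ?_⟩
  · have hspanB : Ideal.span (Set.range fun P => ι (c P)) = ⊤ := by
      rw [show (fun P => ι (c P)) = ι ∘ c from rfl, Set.range_comp, ← Ideal.map_span, hspan, Ideal.map_top]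
    refine Scheme.Cover.hom_ext (Scheme.affineOpenCoverOfSpanRangeEqTop (R := CommRingCat.of B) _ hspanB).openCover _ _ ?_
    intro (P : PrimeSpectrum C)
    have e := awaySq ι (c P)
    show Spec.map (CommRingCat.ofHom (algebraMap B _)) ≫ Spec.map ι' ≫ _ = Spec.map (CommRingCat.ofHom (algebraMap B _)) ≫ ψ
    rw [← Spec.map_comp_assoc, e, Spec.map_comp_assoc]
    refine Eq.trans ?_ (hχ P)
    congr 1
    exact 𝒰.ι_glueMorphisms χ hov P
  · refine Scheme.Cover.hom_ext 𝒰 _ _ ?_
    intro (P : PrimeSpectrum C)
    rw [𝒰.ι_glueMorphisms χ hov P]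
    haveI : IsLocalization ((Submonoid.powers (c P)).map ι) (Localization.Away (ι (c P))) := by
      rw [Submonoid.map_powers]; infer_instance
    let l : Localization.Away (c P) →+* Localization.Away (ι (c P)) :=
      IsLocalization.map _ ι (M := Submonoid.powers (c P)) (Submonoid.le_comap_map _)
    refine specMap_cancel (CommRingCat.ofHom l) (IsLocalization.map_injective_of_injective _ _ _ hinj)
      (localization_surjective ι _ _ _ hsurj) _ _ ?_
    have el : CommRingCat.ofHom l = CommRingCat.ofHom (Localization.awayMap ι (c P)) := by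
      congr 1
    have e := awaySq ι (c P)
    rw [el]
    refine Eq.trans ?_ (hχ P).symm
    show Spec.map _ ≫ Spec.map (CommRingCat.ofHom (algebraMap C _)) ≫ χ' = _
    rw [← Spec.map_comp_assoc, ← e, Spec.map_comp_assoc, hχ']

end Groth.Agent.GLinQuot
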