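import Mathlib

/-! Descent of morphisms along `Spec S → Spec R` for `R ⊆ S` with surjective spectrum map. -/

set_option autoImplicit false
universe u

open CategoryTheory AlgebraicGeometry Limits

noncomputable section

namespace Groth.Agent.GLinQuot

theorem specMap_cancel {R S : CommRingCat.{u}} (f : R ⟶ S) (hinj : Function.Injective f.hom)
    (hsurj : Function.Surjective (PrimeSpectrum.comap f.hom)) {Z : Scheme.{u}} (χ₁ χ₂ : Spec R ⟶ Z)
    (h : Spec.map f ≫ χ₁ = Spec.map f ≫ χ₂) : χ₁ = χ₂ := by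
  have hbase : ∀ p : Spec R, χ₁ p = χ₂ p := by
    intro p
    obtain ⟨q, rfl⟩ := hsurj p
    exact congrArg (fun g : Spec S ⟶ Z => g q) h
  have hex : ∀ p : Spec R, ∃ (r : R) (U : Z.Opens), IsAffineOpen U ∧ r ∉ p.asIdeal ∧
      ((PrimeSpectrum.basicOpen r : TopologicalSpace.Opens (PrimeSpectrum R)) : Set (PrimeSpectrum R)) ⊆ χ₁ ⁻¹' U := by
    intro p
    obtain ⟨_, ⟨U, hU, rfl⟩, hpU, -⟩ := Z.isBasis_affineOpens.exists_subset_of_mem_open (Set.mem_univ (χ₁ p)) isOpen_univ
    obtain ⟨_, ⟨r, rfl⟩, hpr, hr⟩ := PrimeSpectrum.isTopologicalBasis_basic_opens.exists_subset_of_mem_open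
      (show p ∈ χ₁ ⁻¹' (U : Set Z) from hpU) (U.2.preimage χ₁.continuous)
    exact ⟨r, U, hU, hpr, hr⟩
  choose r U hU hmem hsub using hex
  have hspan : Ideal.span (Set.range r) = ⊤ := by
    by_contra hne
    obtain ⟨m, hm, hle⟩ := Ideal.exists_le_maximal _ hne
    exact hmem ⟨m, hm.isPrime⟩ (hle (Ideal.subset_span ⟨⟨m, hm.isPrime⟩, rfl⟩))
  refine Scheme.Cover.hom_ext (Scheme.affineOpenCoverOfSpanRangeEqTop r hspan).openCover χ₁ χ₂ fun p => ?_
  let jR := CommRingCat.ofHom (algebraMap R (Localization.Away (r p)))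
  let jS := CommRingCat.ofHom (algebraMap S (Localization.Away (f.hom (r p))))
  let l := CommRingCat.ofHom (Localization.awayMap f.hom (r p))
  have hl : Function.Injective l.hom := IsLocalization.map_injective_of_injective (.powers (r p)) _ _ hinj
  have hsq : jR ≫ l = f ≫ jS := by
    ext x
    exact IsLocalization.map_eq (M := Submonoid.powers (r p)) (S := Localization.Away (r p))
      (Q := Localization.Away (f.hom (r p))) (T := Submonoid.powers (f.hom (r p)))
      (Submonoid.powers_le.mpr (Submonoid.mem_powers _) : Submonoid.powers (r p) ≤ (Submonoid.powers (f.hom (r p))).comap f.hom) x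
  change Spec.map jR ≫ χ₁ = Spec.map jR ≫ χ₂
  have hrange : ∀ (χ : Spec R ⟶ Z), (∀ q, χ q = χ₁ q) →
      Set.range (Spec.map jR ≫ χ) ⊆ Set.range (hU p).fromSpec := by
    rintro χ hχ _ ⟨q, rfl⟩
    rw [(hU p).range_fromSpec, Scheme.Hom.comp_apply, hχ]
    refine hsub p ?_
    show algebraMap R (Localization.Away (r p)) (r p) ∉ q.asIdeal
    exact fun hq => q.2.ne_top (Ideal.eq_top_of_isUnit_mem _ hq (IsLocalization.Away.algebraMap_isUnit (r p)))
  let g₁ := IsOpenImmersion.lift (hU p).fromSpec _ (hrange χ₁ fun _ => rfl)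
  let g₂ := IsOpenImmersion.lift (hU p).fromSpec _ (hrange χ₂ fun q => (hbase q).symm)
  have e1 : g₁ ≫ (hU p).fromSpec = Spec.map jR ≫ χ₁ := IsOpenImmersion.lift_fac _ _ _
  have e2 : g₂ ≫ (hU p).fromSpec = Spec.map jR ≫ χ₂ := IsOpenImmersion.lift_fac _ _ _
  rw [← e1, ← e2]
  congr 1
  have h3 : Spec.map l ≫ g₁ = Spec.map l ≫ g₂ := by
    rw [← cancel_mono (hU p).fromSpec, Category.assoc, Category.assoc, e1, e2, ← Spec.map_comp_assoc,
      ← Spec.map_comp_assoc, hsq, Spec.map_comp_assoc, Spec.map_comp_assoc, h]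
  rw [← Spec.map_preimage g₁, ← Spec.map_preimage g₂, ← Spec.map_comp, ← Spec.map_comp] at h3
  have h4 := Spec.map_injective h3
  rw [← Spec.map_preimage g₁, ← Spec.map_preimage g₂]
  congr 1
  ext x
  exact hl (congrArg (fun φ => φ.hom x) h4)

theorem localization_surjective {R S : Type u} [CommRing R] [CommRing S] (f : R →+* S) (M : Submonoid R)
    (Rm Sm : Type u) [CommRing Rm] [CommRing Sm] [Algebra R Rm] [Algebra S Sm] [IsLocalization M Rm]
    [IsLocalization (M.map f) Sm] (hsurj : Function.Surjective (PrimeSpectrum.comap f)) :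
    Function.Surjective (PrimeSpectrum.comap (IsLocalization.map (T := M.map f) Sm f (Submonoid.le_comap_map M) : Rm →+* Sm)) := by
  intro P
  obtain ⟨Q, hQ⟩ := hsurj (PrimeSpectrum.comap (algebraMap R Rm) P)
  have hQ' : ∀ x, f x ∈ Q.asIdeal ↔ algebraMap R Rm x ∈ P.asIdeal := fun x => by
    rw [← Ideal.mem_comap, ← Ideal.mem_comap]
    exact iff_of_eq (congrArg (x ∈ ·.asIdeal) hQ)
  have hdis : Disjoint ((M.map f : Submonoid S) : Set S) (Q.asIdeal : Set S) := by
    rw [Set.disjoint_left]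
    rintro _ ⟨m, hm, rfl⟩ hmem
    exact P.2.ne_top (Ideal.eq_top_of_isUnit_mem _ ((hQ' m).mp hmem) (IsLocalization.map_units Rm ⟨m, hm⟩))
  refine ⟨⟨_, IsLocalization.isPrime_of_isPrime_disjoint _ Sm _ Q.2 hdis⟩, PrimeSpectrum.ext ?_⟩
  refine (IsLocalization.orderEmbedding M Rm).injective ?_
  show Ideal.comap (algebraMap R Rm) _ = Ideal.comap (algebraMap R Rm) _
  rw [PrimeSpectrum.comap_asIdeal, Ideal.comap_comap, IsLocalization.map_comp, ← Ideal.comap_comap]
  refine (congrArg (Ideal.comap f) ?_).trans (congrArg PrimeSpectrum.asIdeal hQ)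
  exact IsLocalization.under_map_of_isPrime_disjoint _ Sm Q.2 hdis

end Groth.Agent.GLinQuot
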